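import Cfsg.Agent.Lib.SpMinDegree.Schrodinger
import Cfsg.Agent.Lib.Char.Central

/-!
The Weil representation of `Sp(2n, F)`, `F` of odd order, normalised by equal determinants on the
even and the odd functions.
-/

set_option autoImplicit false
set_option linter.unusedSectionVars false

namespace CfsgLib.SpMinDegree

open Matrix Cfsg CfsgLib.Classical.SympTrans Module

variable {F : Type*} [Field F] [Fintype F] [DecidableEq F] {n : ℕ}

local notation "X" => (Fin n → F)
local notation "V" => (Fin n ⊕ Fin n → F)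
local notation "G" => Matrix.symplecticGroup (Fin n) F
local notation "Op" => Matrix (Fin n → F) (Fin n → F) ℂ

variable (F n) in
/-- Functions of a given parity. -/
def Par (ε : ℂ) : Submodule ℂ (X → ℂ) where
  carrier := {f | ∀ x, f (-x) = ε * f x}
  add_mem' hf hg x := by simp [hf x, hg x, mul_add]
  zero_mem' x := by simp
  smul_mem' c f hf x := by simp [hf x, mul_left_comm]

variable (F n) in
/-- Operators commuting with parity. -/
def parCent : Submonoid Op where
  carrier := {M | M * par = par * M}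
  one_mem' := by simp
  mul_mem' {a b} ha hb := by
    show a * b * par = par * (a * b)
    rw [mul_assoc, show b * par = par * b from hb, ← mul_assoc, show a * par = par * a from ha,
      mul_assoc]

theorem mulVec_mem_Par {M : Op} (hM : M ∈ parCent F n) {ε : ℂ} {f : X → ℂ} (hf : f ∈ Par F n ε) :
    M *ᵥ f ∈ Par F n ε := fun x => by
  have h1 : (par : Op) *ᵥ f = ε • f := funext fun y => by rw [par_mulVec]; exact hf y
  have h2 : ((par : Op) *ᵥ (M *ᵥ f)) x = (M *ᵥ f) (-x) := par_mulVec _ _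
  rw [← h2, mulVec_mulVec, ← show M * (par : Op) = par * M from hM, ← mulVec_mulVec, h1, mulVec_smul,
    Pi.smul_apply, smul_eq_mul]

/-- The restriction to one parity. -/
noncomputable def res (ε : ℂ) : parCent F n →* Module.End ℂ (Par F n ε) where
  toFun M := (Matrix.toLin' (M : Op)).restrict fun f hf => by
    rw [Matrix.toLin'_apply]; exact mulVec_mem_Par M.2 hf
  map_one' := LinearMap.ext fun f => Subtype.ext (by
    show Matrix.toLin' (1 : Op) f.1 = f.1
    rw [Matrix.toLin'_one]; rfl)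
  map_mul' M M' := LinearMap.ext fun f => Subtype.ext (by
    show Matrix.toLin' ((M : Op) * (M' : Op)) f.1 = Matrix.toLin' (M : Op) (Matrix.toLin' (M' : Op) f.1)
    rw [Matrix.toLin'_mul]; rfl)

theorem res_val (ε : ℂ) (M : parCent F n) (f : Par F n ε) :
    ((res ε M f : Par F n ε) : X → ℂ) = (M : Op) *ᵥ (f : X → ℂ) := rfl

theorem neg_eq_self_iff (h2 : (2 : F) ≠ 0) (x : X) : x = -x ↔ x = 0 := by
  refine ⟨fun h => funext fun i => ?_, fun h => by rw [h, neg_zero]⟩
  have hi : x i = -x i := congrFun h i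
  exact (mul_eq_zero.mp (show (2 : F) * x i = 0 by linear_combination hi)).resolve_left h2

theorem trace_par (h2 : (2 : F) ≠ 0) : Matrix.trace (par : Op) = 1 := by
  show ∑ x : X, (if x = -x then (1 : ℂ) else 0) = 1
  rw [Finset.sum_eq_single (0 : X) (fun x _ hx => if_neg (fun h => hx ((neg_eq_self_iff h2 x).mp h)))
    (fun h => absurd (Finset.mem_univ _) h)]
  exact if_pos neg_zero.symm

theorem two_mul_finrank (h2 : (2 : F) ≠ 0) {ε : ℂ} (hε : ε * ε = 1) :
    2 * (Module.finrank ℂ (Par F n ε) : ℂ) = (Fintype.card X : ℂ) + ε := by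
  classical
  set P : Op := (2 : ℂ)⁻¹ • ((1 : Op) + ε • par) with hP
  have hproj : LinearMap.IsProj (Par F n ε) (Matrix.toLin' P) := by
    refine ⟨fun f x => ?_, fun f hf => funext fun x => ?_⟩
    · rw [Matrix.toLin'_apply, hP, smul_mulVec, add_mulVec, one_mulVec, smul_mulVec]
      simp only [Pi.smul_apply, Pi.add_apply, par_mulVec, smul_eq_mul, neg_neg]
      linear_combination (-(2 : ℂ)⁻¹ * f (-x)) * hε
    · rw [Matrix.toLin'_apply, hP, smul_mulVec, add_mulVec, one_mulVec, smul_mulVec]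
      simp only [Pi.smul_apply, Pi.add_apply, par_mulVec, smul_eq_mul, hf x]
      linear_combination ((2 : ℂ)⁻¹ * f x) * hε
  have h := hproj.trace
  rw [Matrix.trace_toLin'_eq, hP, Matrix.trace_smul, Matrix.trace_add, Matrix.trace_smul,
    Matrix.trace_one, trace_par h2] at h
  rw [← h, smul_eq_mul, smul_eq_mul]
  ring

theorem finrank_even_eq (h2 : (2 : F) ≠ 0) :
    Module.finrank ℂ (Par F n 1) = Module.finrank ℂ (Par F n (-1)) + 1 := by
  have e1 := two_mul_finrank (n := n) h2 (ε := 1) (by norm_num)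
  have e2 := two_mul_finrank (n := n) h2 (ε := -1) (by norm_num)
  apply Nat.cast_injective (R := ℂ)
  push_cast
  linear_combination (e1 - e2) / 2

theorem finrank_odd (h2 : (2 : F) ≠ 0) :
    Module.finrank ℂ (Par F n (-1)) = (Fintype.card F ^ n - 1) / 2 := by
  have e2 := two_mul_finrank (n := n) h2 (ε := -1) (by norm_num)
  have h1 : 1 ≤ Fintype.card F ^ n := Nat.one_le_pow _ _ Fintype.card_pos
  have : 2 * Module.finrank ℂ (Par F n (-1)) + 1 = Fintype.card F ^ n := by
    apply Nat.cast_injective (R := ℂ)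
    push_cast
    rw [e2, Fintype.card_fun, Fintype.card_fin]
    push_cast
    ring
  omega

/-- Equal determinants on both parities. -/
def DetEq (M : parCent F n) : Prop :=
  LinearMap.det (res 1 M) = LinearMap.det (res (-1) M)

theorem det_res_ne_zero (M : parCent F n) (hM : IsUnit (M : Op)) (ε : ℂ) :
    LinearMap.det (res ε M) ≠ 0 := by
  obtain ⟨u, hu⟩ := hM
  have hN : ((u⁻¹ : Opˣ) : Op) ∈ parCent F n := by
    have h : (u : Op) * (par : Op) = (par : Op) * (u : Op) := hu ▸ M.2
    show ((u⁻¹ : Opˣ) : Op) * (par : Op) = (par : Op) * ((u⁻¹ : Opˣ) : Op)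
    rw [Units.inv_mul_eq_iff_eq_mul, ← mul_assoc, Units.eq_mul_inv_iff_mul_eq, h]
  intro h
  have h' : LinearMap.det (res ε M) * LinearMap.det (res ε ⟨_, hN⟩) = 1 := by
    rw [← map_mul, ← map_mul, show M * ⟨_, hN⟩ = 1 from Subtype.ext (show (M : Op) * _ = 1 by
      rw [← hu, Units.mul_inv]), map_one, map_one]
  rw [h, zero_mul] at h'
  exact zero_ne_one h'

theorem res_smul (ε c : ℂ) (M : parCent F n) (hc : c • (M : Op) ∈ parCent F n) :
    res ε ⟨c • (M : Op), hc⟩ = c • res ε M :=
  LinearMap.ext fun f => Subtype.ext (by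
    rw [res_val, LinearMap.smul_apply, Submodule.coe_smul, res_val, smul_mulVec])

theorem smul_mem_parCent {M : Op} (hM : M ∈ parCent F n) (c : ℂ) : c • M ∈ parCent F n := by
  show c • M * par = par * (c • M)
  rw [smul_mul_assoc, mul_smul_comm, show M * par = par * M from hM]

theorem exists_weil (h2 : (2 : F) ≠ 0) (hN : Odd (Fintype.card X)) (g : G) :
    ∃ M : parCent F n, IsInt g (M : Op) ∧ DetEq M := by
  obtain ⟨M, hM⟩ := exists_isInt h2 g
  have hpar : M ∈ parCent F n := hM.commute_par h2 hN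
  set A : parCent F n := ⟨M, hpar⟩
  have hp := det_res_ne_zero A (hM.isUnit h2) 1
  have hm := det_res_ne_zero A (hM.isUnit h2) (-1)
  set c := LinearMap.det (res (-1) A) / LinearMap.det (res 1 A) with hc
  have hc0 : c ≠ 0 := div_ne_zero hm hp
  refine ⟨⟨c • M, smul_mem_parCent hpar c⟩, ⟨smul_ne_zero hc0 hM.1, fun v => ?_⟩, ?_⟩
  · show (c • M) * disp v = _
    rw [smul_mul_assoc, hM.2, mul_smul_comm]
  · unfold DetEq
    rw [show (⟨c • M, smul_mem_parCent hpar c⟩ : parCent F n) =
        ⟨c • (A : Op), smul_mem_parCent hpar c⟩ from rfl, res_smul, res_smul, LinearMap.det_smul,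
      LinearMap.det_smul, finrank_even_eq h2, pow_succ, mul_assoc, hc, div_mul_cancel₀ _ hp]

theorem weil_unique (h2 : (2 : F) ≠ 0) {g : G} {M M' : parCent F n} (hM : IsInt g (M : Op))
    (hMd : DetEq M) (hM' : IsInt g (M' : Op)) (hM'd : DetEq M') : M = M' := by
  obtain ⟨c, hc⟩ := hM.unique h2 hM'
  have hc0 : c ≠ 0 := fun h => hM'.1 (by rw [hc, h, zero_smul])
  have hmem : c • (M : Op) ∈ parCent F n := smul_mem_parCent M.2 c
  have e : M' = ⟨c • (M : Op), hmem⟩ := Subtype.ext hc
  subst e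
  unfold DetEq at hMd hM'd
  rw [res_smul, res_smul, LinearMap.det_smul, LinearMap.det_smul, finrank_even_eq h2, hMd,
    pow_succ, mul_assoc, mul_right_inj' (pow_ne_zero _ hc0)] at hM'd
  have hc1 : c = 1 := mul_right_cancel₀ (det_res_ne_zero M (hM.isUnit h2) (-1))
    (hM'd.trans (one_mul _).symm)
  exact Subtype.ext (by rw [hc, hc1, one_smul])

/-- The Weil representation, as operators. -/
noncomputable def weil (h2 : (2 : F) ≠ 0) (hN : Odd (Fintype.card X)) : G →* parCent F n where
  toFun g := (exists_weil h2 hN g).choose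
  map_one' := by
    obtain ⟨h, hd⟩ := (exists_weil (n := n) h2 hN (1 : G)).choose_spec
    refine weil_unique h2 h hd ⟨?_, fun v => ?_⟩ (by unfold DetEq; rw [map_one, map_one, map_one, map_one])
    · show (1 : Op) ≠ 0
      exact one_ne_zero
    · show (1 : Op) * disp v = _ * (1 : Op)
      rw [one_mul, mul_one, app_one]
  map_mul' g g' := by
    obtain ⟨h, hd⟩ := (exists_weil h2 hN (g * g')).choose_spec
    obtain ⟨ha, had⟩ := (exists_weil h2 hN g).choose_spec
    obtain ⟨hb, hbd⟩ := (exists_weil h2 hN g').choose_spec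
    refine weil_unique h2 h hd (ha.mul h2 hb) ?_
    unfold DetEq at had hbd ⊢
    rw [map_mul, map_mul, map_mul, map_mul, had, hbd]

theorem weil_spec (h2 : (2 : F) ≠ 0) (hN : Odd (Fintype.card X)) (g : G) :
    IsInt g ((weil h2 hN g : parCent F n) : Op) := (exists_weil h2 hN g).choose_spec.1

/-- The odd Weil representation. -/
noncomputable def weilOdd (h2 : (2 : F) ≠ 0) (hN : Odd (Fintype.card X)) :
    Representation ℂ G (Par F n (-1)) :=
  (res (-1)).comp (weil h2 hN)

theorem weilOdd_ne_one (h2 : (2 : F) ≠ 0) (hN : Odd (Fintype.card X)) (hn : 2 ≤ n) :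
    ∃ g, weilOdd (n := n) h2 hN g ≠ 1 := by
  by_contra! h
  set J₀ : G := SymplecticGroup.symJ (Fin n) F with hJ
  let e₀ : X := Pi.single ⟨0, by omega⟩ 1
  let e₁ : X := Pi.single ⟨1, by omega⟩ 1
  let v : V := Sum.elim e₀ 0
  let y : X := e₀ + e₁
  let f : X → ℂ := fun z => (if z = y then 1 else 0) - (if z = -y then 1 else 0)
  have hf : f ∈ Par F n (-1) := fun z => by
    simp only [f, neg_inj, show -z = y ↔ z = -y from neg_eq_iff_eq_neg]
    ring
  set W := (weil h2 hN J₀ : parCent F n) with hW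
  have hfix : ∀ k : X → ℂ, k ∈ Par F n (-1) → (W : Op) *ᵥ k = k := fun k hk => by
    have h1 := congrArg (fun T : Module.End ℂ (Par F n (-1)) => ((T ⟨k, hk⟩ : Par F n (-1)) : X → ℂ)) (h J₀)
    exact h1
  have hsub : (disp v : Op) *ᵥ f - (par : Op) *ᵥ ((disp v : Op) *ᵥ f) ∈ Par F n (-1) := fun z => by
    simp only [Pi.sub_apply, par_mulVec, neg_neg]
    ring
  have key : (disp v : Op) *ᵥ f - (par : Op) *ᵥ ((disp v : Op) *ᵥ f) =
      (disp (app J₀ v) : Op) *ᵥ f - (par : Op) *ᵥ ((disp (app J₀ v) : Op) *ᵥ f) := by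
    conv_lhs => rw [← hfix _ hsub]
    have hW' := (weil_spec h2 hN J₀).2 v
    rw [← hW] at hW'
    rw [mulVec_sub, mulVec_mulVec, hW', ← mulVec_mulVec, hfix f hf, mulVec_mulVec,
      show (W : Op) * (par : Op) = (par : Op) * (W : Op) from W.2, ← mulVec_mulVec, mulVec_mulVec f (W : Op) (disp v), hW',
      ← mulVec_mulVec, hfix f hf]
  have hdisp : ∀ (u : V) (z : X), ((disp u : Op) *ᵥ f) z =
      RankOne.psi F (sndV u ⬝ᵥ z + (2 : F)⁻¹ * (fstV u ⬝ᵥ sndV u)) * f (z + fstV u) := fun u z => by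
    rw [mulVec, dotProduct, Finset.sum_eq_single (z + fstV u) (fun w _ hw => by
      rw [disp_apply, if_neg hw, zero_mul]) (fun h => absurd (Finset.mem_univ _) h), disp_apply, if_pos rfl]
  have hJv : fstV (app J₀ v) = 0 := by
    funext i
    simp [fstV, app, hJ, SymplecticGroup.coe_J, Matrix.J, v, fromBlocks, mulVec, dotProduct,
      Fintype.sum_sum_type, Matrix.one_apply]
  have h0 := congrFun key e₁
  simp only [Pi.sub_apply, par_mulVec, hdisp] at h0
  rw [hJv, show fstV v = e₀ from rfl, show sndV v = 0 from rfl] at h0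
  simp only [zero_dotProduct, dotProduct_zero, mul_zero, add_zero, psi_zero, one_mul] at h0
  have ne1 : e₁ + e₀ = y := add_comm _ _
  have i01 : (⟨0, by omega⟩ : Fin n) ≠ ⟨1, by omega⟩ := by simp
  have ne2 : e₁ + e₀ ≠ -y := fun h' => h2 (by
    have := congrFun h' ⟨0, by omega⟩
    simp [y, e₀, e₁, i01] at this
    linear_combination this)
  have ne3 : -e₁ + e₀ ≠ y := fun h' => h2 (by
    have := congrFun h' ⟨1, by omega⟩
    simp [y, e₀, e₁, i01.symm] at this
    linear_combination -this)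
  have ne4 : -e₁ + e₀ ≠ -y := fun h' => h2 (by
    have := congrFun h' ⟨0, by omega⟩
    simp [y, e₀, e₁, i01] at this
    linear_combination this)
  have ne5 : e₁ ≠ y := fun h' => one_ne_zero (α := F) (by
    have := congrFun h' ⟨0, by omega⟩
    simpa [y, e₀, e₁, i01] using this.symm)
  have ne6 : e₁ ≠ -y := fun h' => one_ne_zero (α := F) (by
    have := congrFun h' ⟨0, by omega⟩
    simpa [y, e₀, e₁, i01] using this.symm)
  simp only [f, if_pos ne1, if_neg ne2, if_neg ne3, if_neg ne4, if_neg ne5, if_neg ne6,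
    show -e₁ = y ↔ e₁ = -y from neg_eq_iff_eq_neg, show -e₁ = -y ↔ e₁ = y from neg_inj] at h0
  norm_num at h0

end CfsgLib.SpMinDegree
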