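import Cfsg.Agent.Lib.SpMinDegree.Orbit
import Cfsg.Agent.Lib.Classical.SympTrans
import Cfsg.Agent.Lib.RankOne.Restrict
import Cfsg.Agent.Lib.Char.Kernel

/-!
A nontrivial irreducible character of `Sp(2n, F)` restricted to the Siegel radical.
-/

set_option autoImplicit false
set_option linter.unusedSectionVars false

namespace CfsgLib.SpMinDegree

open Matrix Cfsg CfsgLib.Char CfsgLib.Classical.SympTrans
open scoped MatrixGroups ComplexConjugate

variable {F : Type*} [Field F] [Fintype F] [DecidableEq F] {n : ℕ}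

local notation "G" => Matrix.symplecticGroup (Fin n) F

variable (F n) in
/-- Symmetric matrices. -/
def Sym : AddSubgroup (Matrix (Fin n) (Fin n) F) where
  carrier := {S | Sᵀ = S}
  add_mem' {a b} ha hb := by
    show (a + b)ᵀ = a + b
    rw [transpose_add, show aᵀ = a from ha, show bᵀ = b from hb]
  zero_mem' := transpose_zero
  neg_mem' {a} ha := by
    show (-a)ᵀ = -a
    rw [transpose_neg, show aᵀ = a from ha]

instance : DecidablePred (· ∈ Sym F n) := fun S => decidable_of_iff (Sᵀ = S) Iff.rfl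

theorem unip_mem {S : Matrix (Fin n) (Fin n) F} (hS : Sᵀ = S) :
    Matrix.fromBlocks 1 S 0 1 ∈ G := by
  rw [SymplecticGroup.mem_iff, Matrix.J, fromBlocks_transpose, fromBlocks_multiply,
    fromBlocks_multiply]
  simp [hS]

/-- The Siegel radical. -/
def unip : AddChar (Sym F n) G where
  toFun S := ⟨Matrix.fromBlocks 1 (S : Matrix (Fin n) (Fin n) F) 0 1, unip_mem S.2⟩
  map_zero_eq_one' := Subtype.ext (by simp [fromBlocks_one])
  map_add_eq_mul' S T := Subtype.ext (by
    show _ = Matrix.fromBlocks 1 _ 0 1 * Matrix.fromBlocks 1 _ 0 1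
    rw [fromBlocks_multiply]
    simp [add_comm])

theorem leviS_mem (A : GL (Fin n) F) :
    Matrix.fromBlocks (A : Matrix (Fin n) (Fin n) F) 0 0
      ((A⁻¹ : GL (Fin n) F) : Matrix (Fin n) (Fin n) F)ᵀ ∈ G := by
  rw [SymplecticGroup.mem_iff, Matrix.J, fromBlocks_transpose, fromBlocks_multiply,
    fromBlocks_multiply]
  simp only [transpose_transpose, transpose_zero, Matrix.mul_zero, Matrix.zero_mul, add_zero,
    zero_add, Matrix.mul_neg, Matrix.mul_one, Matrix.neg_mul]
  rw [← transpose_mul, ← Units.val_mul, mul_inv_cancel]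
  simp

/-- The Levi element. -/
def leviS (A : GL (Fin n) F) : G := ⟨_, leviS_mem A⟩

/-- Congruence on symmetric matrices. -/
def symCongr (A : GL (Fin n) F) : Sym F n ≃ Sym F n where
  toFun S := ⟨(A : Matrix (Fin n) (Fin n) F) * S * (A : Matrix (Fin n) (Fin n) F)ᵀ, by
    show (_ : Matrix (Fin n) (Fin n) F)ᵀ = _
    rw [transpose_mul, transpose_mul, transpose_transpose, show (S.1)ᵀ = S.1 from S.2, Matrix.mul_assoc]⟩
  invFun S := ⟨((A⁻¹ : GL (Fin n) F) : Matrix (Fin n) (Fin n) F) * S *
      ((A⁻¹ : GL (Fin n) F) : Matrix (Fin n) (Fin n) F)ᵀ, by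
    show (_ : Matrix (Fin n) (Fin n) F)ᵀ = _
    rw [transpose_mul, transpose_mul, transpose_transpose, show (S.1)ᵀ = S.1 from S.2, Matrix.mul_assoc]⟩
  left_inv S := Subtype.ext (by
    show _ * (_ * S.1 * _) * _ = S.1
    simp only [← Matrix.mul_assoc, ← Units.val_mul, inv_mul_cancel, Units.val_one, Matrix.one_mul]
    rw [Matrix.mul_assoc, ← transpose_mul, ← Units.val_mul, inv_mul_cancel, Units.val_one, transpose_one,
      Matrix.mul_one])
  right_inv S := Subtype.ext (by
    show _ * (_ * S.1 * _) * _ = S.1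
    simp only [← Matrix.mul_assoc, ← Units.val_mul, mul_inv_cancel, Units.val_one, Matrix.one_mul]
    rw [Matrix.mul_assoc, ← transpose_mul, ← Units.val_mul, mul_inv_cancel, Units.val_one, transpose_one,
      Matrix.mul_one])

theorem leviS_conj (A : GL (Fin n) F) (S : Sym F n) :
    leviS A * unip S * (leviS A)⁻¹ = unip (symCongr A S) := by
  rw [mul_inv_eq_iff_eq_mul]
  apply Subtype.ext
  show Matrix.fromBlocks _ 0 0 _ * Matrix.fromBlocks 1 S.1 0 1 =
    Matrix.fromBlocks 1 _ 0 1 * Matrix.fromBlocks _ 0 0 _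
  rw [fromBlocks_multiply, fromBlocks_multiply]
  simp only [Matrix.mul_one, Matrix.one_mul, Matrix.mul_zero, Matrix.zero_mul, add_zero, zero_add]
  congr 1
  show _ = (_ * S.1 * _) * _
  rw [Matrix.mul_assoc, ← transpose_mul, ← Units.val_mul, inv_mul_cancel, Units.val_one, transpose_one,
    Matrix.mul_one]

/-- The characters of the symmetric matrices. -/
noncomputable def trChar (T : Matrix (Fin n) (Fin n) F) : AddChar (Sym F n) ℂ where
  toFun S := RankOne.psi F (Matrix.trace (T * S.1))
  map_zero_eq_one' := by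
    show RankOne.psi F (Matrix.trace (T * 0)) = 1
    rw [Matrix.mul_zero, Matrix.trace_zero, AddChar.map_zero_eq_one]
  map_add_eq_mul' S S' := by
    rw [show ((S + S' : Sym F n) : Matrix (Fin n) (Fin n) F) = S.1 + S'.1 from rfl, Matrix.mul_add,
      Matrix.trace_add, AddChar.map_add_eq_mul]

/-- The multiplicity of a character of the Siegel radical. -/
noncomputable def mult (χ : G → ℂ) (T : Matrix (Fin n) (Fin n) F) : ℂ :=
  (Fintype.card (Sym F n) : ℂ)⁻¹ * ∑ S : Sym F n, χ (unip S) * conj (trChar T S)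

theorem exists_nat_mult {χ : G → ℂ} (hχ : IsCharacter G χ) (T : Matrix (Fin n) (Fin n) F) :
    ∃ k : ℕ, mult χ T = k := by
  have h1 : IsCharacter (Multiplicative (Sym F n)) (fun c => χ (unip.toMonoidHom c)) :=
    isCharacter_comp unip.toMonoidHom hχ
  have h2 : IsCharacter (Multiplicative (Sym F n))
      (fun c => (((trChar T).toMonoidHom.toHomUnits c : ℂˣ) : ℂ)) :=
    isCharacter_monoidHom _
  obtain ⟨k, hk⟩ := exists_nat_classInner h1 h2
  refine ⟨k, ?_⟩
  rw [← hk, classInner, mult, Nat.card_eq_fintype_card]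
  simp only [Fintype.card_multiplicative]
  congr 1
  refine Fintype.sum_equiv Multiplicative.ofAdd _ _ fun c => ?_
  rfl

theorem mult_congr' {χ : G → ℂ} (hχ : IsClassFunction G χ) (T : Matrix (Fin n) (Fin n) F)
    (A : GL (Fin n) F) : mult χ (congr' T A) = mult χ T := by
  unfold mult
  congr 1
  refine Fintype.sum_equiv (symCongr A) _ _ fun S => ?_
  rw [← leviS_conj A S, hχ]
  congr 2
  show RankOne.psi F (Matrix.trace (_ * T * _ * S.1)) = RankOne.psi F (Matrix.trace (T * (_ * S.1 * _)))
  congr 1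
  rw [Matrix.mul_assoc, Matrix.mul_assoc, Matrix.trace_mul_comm, Matrix.mul_assoc]

theorem sum_trChar (h2 : (2 : F) ≠ 0) (S : Sym F n) :
    ∑ T : Sym F n, conj (trChar T.1 S) = if S = 0 then ((Fintype.card (Sym F n) : ℕ) : ℂ) else 0 := by
  classical
  split_ifs with hS
  · subst hS
    simp
  · have hS' : S.1 ≠ 0 := fun h => hS (Subtype.ext h)
    obtain ⟨i, j, hij⟩ : ∃ i j, S.1 i j ≠ 0 := by
      by_contra! h
      exact hS' (Matrix.ext fun i j => h i j)
    let χ : AddChar (Sym F n) ℂ :=
      ⟨fun T => conj (trChar T.1 S), by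
        show conj (RankOne.psi F (Matrix.trace ((0 : Matrix (Fin n) (Fin n) F) * S.1))) = 1
        rw [Matrix.zero_mul, Matrix.trace_zero, AddChar.map_zero_eq_one, map_one],
        fun T T' => by
          show conj (RankOne.psi F (Matrix.trace ((T.1 + T'.1) * S.1))) = _
          rw [Matrix.add_mul, Matrix.trace_add, AddChar.map_add_eq_mul, map_mul]
          rfl⟩
    have hne : χ ≠ 0 := fun h => by
      have h1 : ∀ c : F, RankOne.psi F (2 * S.1 i j * c) = 1 := fun c => by
        let T : Sym F n := ⟨Matrix.single i j c + Matrix.single j i c, by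
          show (_ : Matrix (Fin n) (Fin n) F)ᵀ = _
          rw [transpose_add, transpose_single, transpose_single, add_comm]⟩
        have h3 : conj (RankOne.psi F (Matrix.trace (T.1 * S.1))) = 1 := DFunLike.congr_fun h T
        have h4 : Matrix.trace (T.1 * S.1) = 2 * S.1 i j * c := by
          show Matrix.trace ((Matrix.single i j c + Matrix.single j i c) * S.1) = _
          rw [Matrix.add_mul, Matrix.trace_add, Matrix.trace_single_mul, Matrix.trace_single_mul,
            show S.1 j i = S.1 i j from congrFun (congrFun (show (S.1)ᵀ = S.1 from S.2) i) j]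
          simp only [smul_eq_mul]
          ring
        rw [h4] at h3
        simpa using congrArg conj h3
      have := RankOne.psi_sum (2 * S.1 i j)
      rw [if_neg (mul_ne_zero h2 hij), Finset.sum_congr rfl fun c _ => h1 c, Finset.sum_const,
        Finset.card_univ, nsmul_one] at this
      exact Nat.cast_ne_zero.mpr Fintype.card_ne_zero this
    exact AddChar.sum_eq_zero_iff_ne_zero.mpr hne

theorem expand (h2 : (2 : F) ≠ 0) (χ : G → ℂ) (S : Sym F n) :
    χ (unip S) = ∑ T : Sym F n, mult χ T.1 * trChar T.1 S := by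
  classical
  have hterm : ∀ (T R : Sym F n), χ (unip R) * conj (trChar T.1 R) * trChar T.1 S =
      χ (unip R) * conj (trChar T.1 (R - S)) := fun T R => by
    rw [mul_assoc]
    congr 1
    show conj (RankOne.psi F _) * RankOne.psi F _ = conj (RankOne.psi F (Matrix.trace (T.1 * (R.1 - S.1))))
    rw [Matrix.mul_sub, Matrix.trace_sub, sub_eq_add_neg, AddChar.map_add_eq_mul, map_mul,
      AddChar.map_neg_eq_conj, Complex.conj_conj]
  simp only [mult, mul_assoc, Finset.sum_mul, ← Finset.mul_sum]
  rw [Finset.sum_comm]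
  simp only [← mul_assoc, hterm, ← Finset.mul_sum, sum_trChar h2, sub_eq_zero]
  rw [Finset.sum_eq_single S]
  · rw [if_pos rfl, ← mul_assoc, mul_comm _ (χ (unip S)), mul_assoc,
      inv_mul_cancel₀ (Nat.cast_ne_zero.2 Fintype.card_ne_zero), mul_one]
  · intro R _ hR
    rw [if_neg hR, mul_zero]
  · simp

theorem eq_one_of_unip {χ : G → ℂ} (hχ : IsIrrCharacter G χ) (hn : 1 ≤ n)
    (h : ∀ S : Sym F n, χ (unip S) = χ 1) : χ = fun _ => 1 := by
  classical
  have hc := isCharacter_of_isIrr hχ
  obtain ⟨K, hKn, hK, -⟩ := exists_kernel hc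
  let v : Fin n ⊕ Fin n → F := Pi.single (.inl ⟨0, by omega⟩) 1
  have hv : v ≠ 0 := by simp [v]
  have hT : ∀ c, T v c ∈ K := fun c => by
    let S : Sym F n := ⟨Matrix.single ⟨0, by omega⟩ ⟨0, by omega⟩ c, transpose_single ..⟩
    have e : T v c = unip S := ext_app fun x => by
      rw [app_T]
      have hω : sympForm n F x v = x (.inr ⟨0, by omega⟩) := f_inl x _
      rw [hω]
      show _ = Matrix.fromBlocks 1 S.1 0 1 *ᵥ x
      rw [fromBlocks_mulVec]
      funext i
      rcases i with i | i
      · simp [v, S, Pi.single_apply, Matrix.single_mulVec, Function.update_apply]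
      · simp [v]
    rw [hK, e, h]
  have htop : K = ⊤ := by
    rw [eq_top_iff, ← gen_univ, gen, Subgroup.closure_le]
    rintro _ ⟨w, -, c, rfl⟩
    by_cases hw : w = 0
    · rw [hw, T_zero']; exact one_mem K
    obtain ⟨g, hg⟩ := exists_app_eq hv hw
    rw [← hg, ← conj_T]
    exact hKn.conj_mem _ (hT c) g
  have hconst : ∀ g, χ g = χ 1 := fun g => (hK g).mp (htop ▸ Subgroup.mem_top g)
  have hinner : classInner χ (fun _ => 1) ≠ 0 := by
    rw [classInner]
    simp only [hconst, map_one, mul_one, Finset.sum_const, Finset.card_univ, nsmul_eq_mul,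
      ← Nat.card_eq_fintype_card]
    rw [inv_mul_cancel_left₀ (Nat.cast_ne_zero.mpr Nat.card_pos.ne')]
    exact irr_degree_ne_zero hχ
  exact RankOne.eq_of_inner_ne_zero hχ isIrrCharacter_one hinner

/-- The lower bound. -/
theorem degree_ge (h2 : (2 : F) ≠ 0) (hn : 1 ≤ n) {χ : G → ℂ} (hχ : IsIrrCharacter G χ)
    (h1 : χ ≠ fun _ => 1) {k : ℕ} (hk : χ 1 = k) : (Fintype.card F ^ n - 1) / 2 ≤ k := by
  classical
  have hc := isCharacter_of_isIrr hχ
  choose m hm using fun T : Sym F n => exists_nat_mult hc T.1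
  have hsum : k = ∑ T : Sym F n, m T := by
    apply Nat.cast_injective (R := ℂ)
    rw [← hk, Nat.cast_sum]
    have := expand h2 χ (0 : Sym F n)
    rw [AddChar.map_zero_eq_one] at this
    rw [this]
    exact Finset.sum_congr rfl fun T _ => by rw [AddChar.map_zero_eq_one, mul_one, hm]
  obtain ⟨T, hT0, hTm⟩ : ∃ T : Sym F n, T ≠ 0 ∧ m T ≠ 0 := by
    by_contra! h
    refine h1 (eq_one_of_unip hχ hn fun S => ?_)
    rw [hk, hsum, Nat.cast_sum, expand h2 χ S]
    refine Finset.sum_congr rfl fun T _ => ?_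
    rw [hm]
    by_cases hT : T = 0
    · subst hT
      rw [show trChar ((0 : Sym F n) : Matrix (Fin n) (Fin n) F) S = 1 by
        show RankOne.psi F (Matrix.trace ((0 : Matrix (Fin n) (Fin n) F) * S.1)) = 1
        rw [Matrix.zero_mul, Matrix.trace_zero, AddChar.map_zero_eq_one], mul_one]
    · rw [h T hT, Nat.cast_zero, zero_mul]
  have hTs : (T.1).IsSymm := T.2
  set O := Finset.univ.image (congr' T.1) with hO
  have hval : ∀ S ∈ O, ∃ U : Sym F n, U.1 = S ∧ m U = m T := fun S hS => by
    obtain ⟨A, -, rfl⟩ := Finset.mem_image.mp hS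
    refine ⟨⟨_, isSymm_congr' hTs A⟩, rfl, ?_⟩
    have := (hm ⟨_, isSymm_congr' hTs A⟩).symm.trans
      ((mult_congr' (isClassFunction_of_isCharacter hc) T.1 A).trans (hm T))
    exact_mod_cast this
  choose! U hU using hval
  have hle : O.card ≤ k := by
    rw [hsum]
    calc O.card = ∑ _S ∈ O, 1 := Finset.card_eq_sum_ones _
      _ ≤ ∑ S ∈ O, m (U S) := Finset.sum_le_sum fun S hS => by
          rw [(hU S hS).2]; omega
      _ = ∑ T' ∈ O.image U, m T' := (Finset.sum_image fun a ha b hb h => by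
          rw [← (hU a ha).1, ← (hU b hb).1, h]).symm
      _ ≤ ∑ T' : Sym F n, m T' := Finset.sum_le_sum_of_subset (Finset.subset_univ _)
  have hb := orbit_bound h2 hTs (fun e => hT0 (Subtype.ext e))
  have : O.card = (Finset.univ.image (congr' T.1)).card := by rw [hO]
  omega

end CfsgLib.SpMinDegree
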