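import Cfsg.Agent.Lib.SpMinDegree.Siegel
import Cfsg.Agent.Lib.SpMinDegree.Weil
import Cfsg.Agent.Lib.Char.Counting

/-!
The odd Weil representation realises the smallest nontrivial degree of `Sp(2n, F)`.
-/

set_option autoImplicit false
set_option linter.unusedSectionVars false

namespace CfsgLib.SpMinDegree

open Matrix Cfsg CfsgLib.Char

variable {F : Type*} [Field F] [Fintype F] [DecidableEq F] {n : ℕ}

local notation "G" => Matrix.symplecticGroup (Fin n) F

theorem two_ne_zero_of_odd (hodd : Odd (Fintype.card F)) : (2 : F) ≠ 0 := by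
  intro h
  have hc : ringChar F = 2 := by
    have hd : ringChar F ∣ 2 := (ringChar.spec F 2).1 (by simpa using h)
    have := Fact.mk (CharP.char_is_prime F (ringChar F))
    exact (Nat.prime_dvd_prime_iff_eq Fact.out Nat.prime_two).1 hd
  exact (Nat.not_even_iff_odd.mpr hodd) (Nat.even_iff.mpr (FiniteField.even_card_of_char_two hc))

theorem exists_odd_weil (hn : 2 ≤ n) (hodd : Odd (Fintype.card F)) :
    ∃ χ : G → ℂ, IsIrrCharacter G χ ∧ χ 1 = (((Fintype.card F ^ n - 1) / 2 : ℕ) : ℂ) := by
  classical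
  have h2 := two_ne_zero_of_odd hodd
  have hN : Odd (Fintype.card (Fin n → F)) := by
    rw [Fintype.card_fun, Fintype.card_fin]; exact hodd.pow
  set σ := weilOdd (n := n) h2 hN with hσ
  have hdeg : σ.character 1 = (((Fintype.card F ^ n - 1) / 2 : ℕ) : ℂ) := by
    rw [Representation.char_one, finrank_odd h2]
  have hc := isCharacter_character σ
  obtain ⟨c, hcψ⟩ := exists_multiplicities hc
  choose d hd using fun ψ : IrrCharacter G => exists_nat_degree (isCharacter_of_isIrr ψ.2)
  have hperf : commutator G = ⊤ := Classical.SympTrans.commutator_of_card (by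
    have h3 : 3 ≤ Fintype.card F := by
      have := Fintype.one_lt_card (α := F)
      rcases hodd with ⟨r, hr⟩
      omega
    rw [Nat.card_eq_fintype_card]
    omega)
  obtain ⟨ψ, hψc, hψne⟩ : ∃ ψ : IrrCharacter G, c ψ ≠ 0 ∧ (ψ : G → ℂ) ≠ fun _ => 1 := by
    by_contra! h
    obtain ⟨g, hg⟩ := weilOdd_ne_one (n := n) h2 hN hn
    refine hg ((character_eq_finrank_iff σ g).mp ?_)
    rw [← Representation.char_one σ, hcψ]
    simp only [Finset.sum_apply, Pi.smul_apply, smul_eq_mul]
    refine Finset.sum_congr rfl fun ψ _ => ?_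
    by_cases hψ : c ψ = 0
    · rw [hψ, Nat.cast_zero, zero_mul, zero_mul]
    · rw [h ψ hψ]
  have hlin : (ψ : G → ℂ) 1 ≠ 1 := fun h1 => hψne <| funext fun g => by
    have hle : commutator G ≤ (linearHom (isCharacter_of_isIrr ψ.2) h1).ker :=
      Abelianization.commutator_subset_ker _
    rw [hperf] at hle
    have h := congrArg Units.val (MonoidHom.mem_ker.mp (hle (Subgroup.mem_top g)))
    rwa [linearHom_apply, Units.val_one] at h
  have hge : (Fintype.card F ^ n - 1) / 2 ≤ d ψ := degree_ge h2 (by omega) ψ.2 hψne (hd ψ)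
  have hle : d ψ ≤ (Fintype.card F ^ n - 1) / 2 := by
    have hsum : ((Fintype.card F ^ n - 1) / 2) = ∑ φ, c φ * d φ := by
      apply Nat.cast_injective (R := ℂ)
      rw [← hdeg, hcψ]
      simp [hd]
    rw [hsum]
    refine le_trans (Nat.le_mul_of_pos_left _ (Nat.pos_of_ne_zero hψc)) ?_
    exact Finset.single_le_sum (f := fun φ => c φ * d φ) (fun φ _ => Nat.zero_le _) (Finset.mem_univ ψ)
  exact ⟨ψ, ψ.2, by rw [hd ψ, le_antisymm hle hge]⟩

end CfsgLib.SpMinDegree
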