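import Mathlib

/-!
Congruence orbits of symmetric matrices in odd characteristic have at least `(q^n - 1)/2` elements.
-/

set_option autoImplicit false
set_option linter.unusedSectionVars false

namespace CfsgLib.SpMinDegree

open Matrix
open scoped MatrixGroups

variable {F : Type*} [Field F] [Fintype F] [DecidableEq F] {n : ℕ}

/-- The congruence `T ↦ Aᵀ T A`. -/
def congr' (T : Matrix (Fin n) (Fin n) F) (A : GL (Fin n) F) : Matrix (Fin n) (Fin n) F :=
  (A : Matrix (Fin n) (Fin n) F)ᵀ * T * (A : Matrix (Fin n) (Fin n) F)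

theorem congr'_mul (T : Matrix (Fin n) (Fin n) F) (A B : GL (Fin n) F) :
    congr' T (A * B) = congr' (congr' T A) B := by
  simp [congr', Matrix.mul_assoc, transpose_mul]

theorem congr'_one (T : Matrix (Fin n) (Fin n) F) : congr' T 1 = T := by simp [congr']

theorem isSymm_congr' {T : Matrix (Fin n) (Fin n) F} (hT : T.IsSymm) (A : GL (Fin n) F) :
    (congr' T A).IsSymm := by
  unfold Matrix.IsSymm congr'
  rw [transpose_mul, transpose_mul, transpose_transpose, hT.eq, Matrix.mul_assoc]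

variable {m : ℕ}

/-- The isometry group of `T`. -/
def Iso (T : Matrix (Fin (m + 1)) (Fin (m + 1)) F) : Type _ :=
  {A : GL (Fin (m + 1)) F // congr' T A = T}

theorem card_GL_succ (m : ℕ) :
    Nat.card (GL (Fin (m + 1)) F) =
      (Fintype.card F ^ (m + 1) - 1) * Fintype.card F ^ m * Nat.card (GL (Fin m) F) := by
  rw [Matrix.card_GL_field, Matrix.card_GL_field, Fin.prod_univ_succ]
  simp only [Fin.val_zero, pow_zero, Fin.val_succ]
  have h : ∀ i : Fin m, Fintype.card F ^ (m + 1) - Fintype.card F ^ ((i : ℕ) + 1) =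
      Fintype.card F * (Fintype.card F ^ m - Fintype.card F ^ (i : ℕ)) := fun i => by
    rw [Nat.mul_sub, ← pow_succ', ← pow_succ']
  rw [Finset.prod_congr rfl fun i _ => h i, Finset.prod_mul_distrib, Finset.prod_const,
    Finset.card_univ, Fintype.card_fin, mul_assoc]

theorem card_fixed_le (T : Matrix (Fin (m + 1)) (Fin (m + 1)) F) (h00 : T 0 0 ≠ 0) :
    Nat.card {A : Iso T // ∀ i, (A.1 : Matrix (Fin (m + 1)) (Fin (m + 1)) F) i 0 = if i = 0 then 1 else 0} ≤
      Nat.card (GL (Fin m) F) := by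
  have : Finite (Iso T) := Subtype.finite
  have hdet : ∀ A : {A : Iso T // ∀ i, (A.1 : Matrix (Fin (m + 1)) (Fin (m + 1)) F) i 0 = if i = 0 then 1 else 0},
      ((A.1.1 : Matrix (Fin (m + 1)) (Fin (m + 1)) F).submatrix Fin.succ Fin.succ).det ≠ 0 := fun A h => by
    apply A.1.1.det_ne_zero
    rw [det_succ_column_zero, Fin.sum_univ_succ]
    simp [A.2, h, Fin.succ_ne_zero]
  refine Nat.card_le_card_of_injective
    (fun A => Matrix.GeneralLinearGroup.mkOfDetNeZero _ (hdet A)) fun A B hAB => ?_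
  have hblk : ∀ i j : Fin m, (A.1.1 : Matrix (Fin (m + 1)) (Fin (m + 1)) F) i.succ j.succ =
      (B.1.1 : Matrix (Fin (m + 1)) (Fin (m + 1)) F) i.succ j.succ := fun i j =>
    congrFun (congrFun (congrArg (fun g : GL (Fin m) F => (g : Matrix (Fin m) (Fin m) F)) hAB) i) j
  have hrow : ∀ C : {A : Iso T // ∀ i, (A.1 : Matrix (Fin (m + 1)) (Fin (m + 1)) F) i 0 = if i = 0 then 1 else 0},
      ∀ j : Fin m, T 0 0 * (C.1.1 : Matrix (Fin (m + 1)) (Fin (m + 1)) F) 0 j.succ =
        T 0 j.succ - ∑ l : Fin m, T 0 l.succ * (C.1.1 : Matrix (Fin (m + 1)) (Fin (m + 1)) F) l.succ j.succ := by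
    intro C j
    have h := congrFun (congrFun C.1.2 0) j.succ
    rw [congr', Matrix.mul_assoc, Matrix.mul_apply] at h
    simp only [transpose_apply, C.2, ite_mul, one_mul, zero_mul, Finset.sum_ite_eq', Finset.mem_univ,
      if_true] at h
    rw [Matrix.mul_apply, Fin.sum_univ_succ] at h
    rw [← h]
    ring
  refine Subtype.ext (Subtype.ext (Units.ext (Matrix.ext fun i j => ?_)))
  refine Fin.cases ?_ (fun j => ?_) j
  · rw [A.2, B.2]
  · refine Fin.cases ?_ (fun i => hblk i j) i
    refine mul_left_cancel₀ h00 ?_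
    rw [hrow A j, hrow B j]
    simp [hblk]

theorem card_level_le (T : Matrix (Fin (m + 1)) (Fin (m + 1)) F) (h00 : T 0 0 ≠ 0) (c : F) :
    Nat.card {x : Fin (m + 1) → F // x ⬝ᵥ (T *ᵥ x) = c} ≤ 2 * Fintype.card F ^ m := by
  classical
  rw [Nat.card_eq_fintype_card, Fintype.card_subtype]
  refine (Finset.card_le_mul_card_image_of_maps_to (f := fun x : Fin (m + 1) → F => fun i => x (Fin.succ i))
    (t := Finset.univ) (fun x _ => Finset.mem_univ _) 2 fun z _ => ?_).trans ?_
  · rw [← not_lt, Finset.two_lt_card]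
    rintro ⟨x, hx, y, hy, w, hw, hxy, hxw, hyw⟩
    simp only [Finset.mem_filter, Finset.mem_univ, true_and] at hx hy hw
    have hq : ∀ u : Fin (m + 1) → F, (fun i => u (Fin.succ i)) = z → u ⬝ᵥ (T *ᵥ u) =
        T 0 0 * u 0 ^ 2 + (∑ i : Fin m, (T 0 i.succ + T i.succ 0) * z i) * u 0 +
          ∑ i : Fin m, z i * ∑ j : Fin m, T i.succ j.succ * z j := fun u hu => by
      subst hu
      simp only [dotProduct, mulVec, Fin.sum_univ_succ, add_mul, Finset.sum_add_distrib,
        Finset.sum_mul, mul_add, Finset.mul_sum]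
      have e1 : ∑ i : Fin m, u 0 * (T 0 i.succ * u i.succ) = ∑ i : Fin m, T 0 i.succ * u i.succ * u 0 :=
        Finset.sum_congr rfl fun i _ => by ring
      have e2 : ∑ i : Fin m, u i.succ * (T i.succ 0 * u 0) = ∑ i : Fin m, T i.succ 0 * u i.succ * u 0 :=
        Finset.sum_congr rfl fun i _ => by ring
      rw [e1, e2]
      ring
    have inj : ∀ u u' : Fin (m + 1) → F, (fun i => u (Fin.succ i)) = z →
        (fun i => u' (Fin.succ i)) = z → u 0 = u' 0 → u = u' := fun u u' hu hu' h0 =>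
      funext fun i => Fin.cases h0 (fun i => congrFun (hu.trans hu'.symm) i) i
    set β := ∑ i : Fin m, (T 0 i.succ + T i.succ 0) * z i
    have e1 := (hq x hx.2).symm.trans hx.1
    have e2 := (hq y hy.2).symm.trans hy.1
    have e3 := (hq w hw.2).symm.trans hw.1
    have hxy0 : x 0 - y 0 ≠ 0 := sub_ne_zero.mpr fun h => hxy (inj x y hx.2 hy.2 h)
    have hxw0 : x 0 - w 0 ≠ 0 := sub_ne_zero.mpr fun h => hxw (inj x w hx.2 hw.2 h)
    have a1 : T 0 0 * (x 0 + y 0) + β = 0 :=
      (mul_eq_zero.mp (show (x 0 - y 0) * (T 0 0 * (x 0 + y 0) + β) = 0 by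
        linear_combination e1 - e2)).resolve_left hxy0
    have a2 : T 0 0 * (x 0 + w 0) + β = 0 :=
      (mul_eq_zero.mp (show (x 0 - w 0) * (T 0 0 * (x 0 + w 0) + β) = 0 by
        linear_combination e1 - e3)).resolve_left hxw0
    refine hyw (inj y w hy.2 hw.2 (mul_left_cancel₀ h00 ?_))
    linear_combination a1 - a2
  · rw [Finset.card_univ, Fintype.card_fun, Fintype.card_fin]

theorem card_iso_le (T : Matrix (Fin (m + 1)) (Fin (m + 1)) F) (h00 : T 0 0 ≠ 0) :
    Nat.card (Iso T) ≤ 2 * Fintype.card F ^ m * Nat.card (GL (Fin m) F) := by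
  classical
  have : Finite (Iso T) := Subtype.finite
  let L := {x : Fin (m + 1) → F // x ⬝ᵥ (T *ᵥ x) = T 0 0}
  let col : Iso T → L := fun A => ⟨fun i => (A.1 : Matrix (Fin (m + 1)) (Fin (m + 1)) F) i 0, by
    have h := congrFun (congrFun A.2 0) 0
    rw [congr', Matrix.mul_assoc, Matrix.mul_apply] at h
    rw [← h, dotProduct]
    refine Finset.sum_congr rfl fun i _ => ?_
    rw [transpose_apply, Matrix.mul_apply]
    rfl⟩
  let one : Iso T := ⟨1, congr'_one T⟩
  let rep : L → Iso T := fun l => if h : ∃ A, col A = l then h.choose else one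
  have hrep : ∀ A, col (rep (col A)) = col A := fun A => by
    have h : ∃ B, col B = col A := ⟨A, rfl⟩
    simp only [rep, dif_pos h]
    exact h.choose_spec
  have hfix : ∀ A : Iso T, congr' T ((rep (col A)).1⁻¹ * A.1) = T := fun A => by
    rw [congr'_mul]
    conv_lhs => arg 1; arg 1; rw [← (rep (col A)).2]
    rw [← congr'_mul T, mul_inv_cancel, congr'_one, A.2]
  let f : Iso T → L × {A : Iso T // ∀ i, (A.1 : Matrix (Fin (m + 1)) (Fin (m + 1)) F) i 0 = if i = 0 then 1 else 0} :=
    fun A => (col A, ⟨⟨(rep (col A)).1⁻¹ * A.1, hfix A⟩, fun i => by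
      have h := hrep A
      set B := (rep (col A)).1
      have hc : ∀ k, (A.1 : Matrix (Fin (m + 1)) (Fin (m + 1)) F) k 0 = (B : Matrix (Fin (m + 1)) (Fin (m + 1)) F) k 0 := fun k =>
        (congrFun (congrArg Subtype.val h) k).symm
      have h1 : (((B⁻¹ * B : GL (Fin (m + 1)) F)) : Matrix (Fin (m + 1)) (Fin (m + 1)) F) i 0 =
          if i = 0 then 1 else 0 := by
        rw [inv_mul_cancel, Units.val_one, Matrix.one_apply]
      rw [← h1, Units.val_mul, Units.val_mul, Matrix.mul_apply, Matrix.mul_apply]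
      exact Finset.sum_congr rfl fun k _ => by rw [hc k]⟩)
  have hf : Function.Injective f := fun A B h => by
    have h1 : col A = col B := congrArg Prod.fst h
    have h2 : (rep (col A)).1⁻¹ * A.1 = (rep (col B)).1⁻¹ * B.1 := congrArg (fun p => p.2.1.1) h
    rw [h1] at h2
    exact Subtype.ext (mul_left_cancel h2)
  refine (Nat.card_le_card_of_injective f hf).trans ?_
  rw [Nat.card_prod]
  exact Nat.mul_le_mul (card_level_le T h00 _) (card_fixed_le T h00)

/-- The orbit bound. -/
theorem orbit_bound_of_corner (T : Matrix (Fin (m + 1)) (Fin (m + 1)) F) (h00 : T 0 0 ≠ 0) :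
    Fintype.card F ^ (m + 1) - 1 ≤ 2 * (Finset.univ.image (congr' T)).card := by
  classical
  have hfib : ∀ S ∈ Finset.univ.image (congr' T),
      (Finset.univ.filter fun A => congr' T A = S).card = Nat.card (Iso T) := by
    intro S hS
    obtain ⟨A₀, -, rfl⟩ := Finset.mem_image.mp hS
    rw [← Fintype.card_subtype, ← Nat.card_eq_fintype_card]
    refine Nat.card_congr (Equiv.subtypeEquiv (Equiv.mulRight A₀⁻¹) fun A => ?_)
    rw [Equiv.coe_mulRight, congr'_mul]
    refine ⟨fun h => by rw [h, ← congr'_mul, mul_inv_cancel, congr'_one], fun h => ?_⟩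
    conv_rhs => rw [← h]
    rw [← congr'_mul, ← congr'_mul, inv_mul_cancel, mul_one]
  have hcard := Finset.card_eq_sum_card_image (congr' T) (Finset.univ : Finset (GL (Fin (m + 1)) F))
  rw [Finset.sum_congr rfl hfib, Finset.sum_const, smul_eq_mul, Finset.card_univ,
    ← Nat.card_eq_fintype_card, card_GL_succ] at hcard
  refine Nat.le_of_mul_le_mul_right ?_ (show 0 < Fintype.card F ^ m * Nat.card (GL (Fin m) F) from
    Nat.mul_pos (Nat.pow_pos Fintype.card_pos) Nat.card_pos)
  rw [← mul_assoc, hcard]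
  calc (Finset.univ.image (congr' T)).card * Nat.card (Iso T)
      ≤ (Finset.univ.image (congr' T)).card * (2 * Fintype.card F ^ m * Nat.card (GL (Fin m) F)) :=
        Nat.mul_le_mul_left _ (card_iso_le T h00)
    _ = 2 * (Finset.univ.image (congr' T)).card * (Fintype.card F ^ m * Nat.card (GL (Fin m) F)) := by
        ring

theorem image_congr'_congr (T : Matrix (Fin n) (Fin n) F) (A : GL (Fin n) F) :
    Finset.univ.image (congr' (congr' T A)) = Finset.univ.image (congr' T) := by
  ext S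
  simp only [Finset.mem_image, Finset.mem_univ, true_and]
  constructor
  · rintro ⟨B, rfl⟩
    exact ⟨A * B, congr'_mul T A B⟩
  · rintro ⟨B, rfl⟩
    exact ⟨A⁻¹ * B, by rw [← congr'_mul, mul_inv_cancel_left]⟩

theorem exists_corner (h2 : (2 : F) ≠ 0) {T : Matrix (Fin (m + 1)) (Fin (m + 1)) F} (hT : T.IsSymm)
    (hT0 : T ≠ 0) : ∃ A : GL (Fin (m + 1)) F, congr' T A 0 0 ≠ 0 := by
  classical
  have diag : ∀ S : Matrix (Fin (m + 1)) (Fin (m + 1)) F, ∀ i, S i i ≠ 0 →
      ∃ A : GL (Fin (m + 1)) F, congr' S A 0 0 ≠ 0 := by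
    intro S i hi
    let P : Matrix (Fin (m + 1)) (Fin (m + 1)) F := (1 : Matrix _ _ F).submatrix (Equiv.swap 0 i) id
    have hP : P * P = 1 := by
      ext a b
      simp [P, Matrix.mul_apply, Matrix.one_apply]
      rw [Finset.sum_eq_single (Equiv.swap 0 i a) (fun b' _ h => by simp [Ne.symm h]) (by simp)]
      simp
    refine ⟨⟨P, P, hP, hP⟩, ?_⟩
    show (Pᵀ * S * P) 0 0 ≠ 0
    rw [Matrix.mul_apply, Finset.sum_eq_single i (fun b _ hb => by
        simp [P, Equiv.swap_apply_eq_iff, hb])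
      (fun h => absurd (Finset.mem_univ _) h), Matrix.mul_apply, Finset.sum_eq_single i (fun b _ hb => by
        simp [P, Equiv.swap_apply_eq_iff, hb])
      (fun h => absurd (Finset.mem_univ _) h)]
    simpa [P, Matrix.one_apply] using hi
  by_cases hd : ∃ i, T i i ≠ 0
  · obtain ⟨i, hi⟩ := hd
    exact diag T i hi
  push Not at hd
  obtain ⟨i, j, hij⟩ : ∃ i j, T i j ≠ 0 := by
    by_contra! h
    exact hT0 (Matrix.ext fun i j => h i j)
  have hne : i ≠ j := fun h => hij (h ▸ hd i)
  let M : Matrix (Fin (m + 1)) (Fin (m + 1)) F := Matrix.transvection j i 1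
  have hM : M.det ≠ 0 := by rw [det_transvection_of_ne j i hne.symm]; exact one_ne_zero
  let A := Matrix.GeneralLinearGroup.mkOfDetNeZero M hM
  have hii : congr' T A i i ≠ 0 := by
    show (Mᵀ * T * M) i i ≠ 0
    have e : (Mᵀ * T * M) i i = T i j + T j i := by
      simp only [M, Matrix.transvection, transpose_add, transpose_one, transpose_single, Matrix.add_mul,
        Matrix.one_mul, Matrix.mul_add, Matrix.mul_one, Matrix.add_apply]
      simp [hd, Matrix.mul_apply, Matrix.single_apply]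
      ring
    rw [e, hT.apply i j, ← two_mul]
    exact mul_ne_zero h2 hij
  obtain ⟨B, hB⟩ := diag (congr' T A) i hii
  exact ⟨A * B, by rw [congr'_mul]; exact hB⟩

theorem orbit_bound (h2 : (2 : F) ≠ 0) {T : Matrix (Fin n) (Fin n) F} (hT : T.IsSymm) (hT0 : T ≠ 0) :
    Fintype.card F ^ n - 1 ≤ 2 * (Finset.univ.image (congr' T)).card := by
  rcases n with _ | m
  · exact absurd (Matrix.ext fun i => i.elim0) hT0
  obtain ⟨A, hA⟩ := exists_corner h2 hT hT0
  rw [← image_congr'_congr T A]
  exact orbit_bound_of_corner _ hA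

end CfsgLib.SpMinDegree
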