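import Cfsg.Agent.Lib.Classical.SympTrans
import Cfsg.Agent.Lib.RankOne.Restrict

/-!
The Schrödinger model: displacement operators on functions on `F^n` and their intertwiners.
-/

set_option autoImplicit false
set_option linter.unusedSectionVars false

namespace CfsgLib.SpMinDegree

open Matrix Cfsg CfsgLib.Classical.SympTrans

variable {F : Type*} [Field F] [Fintype F] [DecidableEq F] {n : ℕ}

local notation "X" => (Fin n → F)
local notation "V" => (Fin n ⊕ Fin n → F)
local notation "G" => Matrix.symplecticGroup (Fin n) F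
local notation "Op" => Matrix (Fin n → F) (Fin n → F) ℂ

/-- The first half of a vector. -/
def fstV (v : V) : X := fun i => v (.inl i)

/-- The second half of a vector. -/
def sndV (v : V) : X := fun i => v (.inr i)

theorem form_eq (u v : V) : sympForm n F u v = sndV u ⬝ᵥ fstV v - fstV u ⬝ᵥ sndV v := by
  rw [f_apply, Finset.sum_sub_distrib]
  rfl

theorem fstV_add (u v : V) : fstV (u + v) = fstV u + fstV v := rfl

theorem sndV_add (u v : V) : sndV (u + v) = sndV u + sndV v := rfl

theorem fstV_neg (u : V) : fstV (-u) = -fstV u := rfl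

theorem sndV_neg (u : V) : sndV (-u) = -sndV u := rfl

theorem ext_halves {u v : V} (h1 : fstV u = fstV v) (h2 : sndV u = sndV v) : u = v :=
  funext fun i => Sum.casesOn i (fun j => congrFun h1 j) (fun j => congrFun h2 j)

theorem psi_zero : RankOne.psi F 0 = 1 := AddChar.map_zero_eq_one _

theorem psi_add (a b : F) : RankOne.psi F (a + b) = RankOne.psi F a * RankOne.psi F b :=
  AddChar.map_add_eq_mul _ _ _

theorem sum_psi_dot (x : X) :
    ∑ b : X, RankOne.psi F (b ⬝ᵥ x) = if x = 0 then ((Fintype.card X : ℕ) : ℂ) else 0 := by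
  split_ifs with hx
  · subst hx
    simp
  · obtain ⟨i, hi⟩ := Function.ne_iff.mp hx
    let χ : AddChar X ℂ := ⟨fun b => RankOne.psi F (b ⬝ᵥ x), by rw [zero_dotProduct, psi_zero],
      fun b c => by rw [add_dotProduct, psi_add]⟩
    have hne : χ ≠ 0 := fun h => by
      have h1 : ∀ c : F, RankOne.psi F (x i * c) = 1 := fun c => by
        simpa [χ, mul_comm] using DFunLike.congr_fun h (Pi.single i c)
      have := RankOne.psi_sum (x i)
      rw [if_neg (show x i ≠ 0 from hi), Finset.sum_congr rfl fun c _ => h1 c, Finset.sum_const, Finset.card_univ,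
        nsmul_one] at this
      exact Nat.cast_ne_zero.mpr Fintype.card_ne_zero this
    exact AddChar.sum_eq_zero_iff_ne_zero.mpr hne

/-- The displacement operator `f ↦ (x ↦ ψ(b·x + a·b/2) f(x + a))`. -/
noncomputable def disp (v : V) : Op := fun x y =>
  if y = x + fstV v then RankOne.psi F (sndV v ⬝ᵥ x + (2 : F)⁻¹ * (fstV v ⬝ᵥ sndV v)) else 0

theorem disp_apply (v : V) (x y : X) : disp v x y =
    if y = x + fstV v then RankOne.psi F (sndV v ⬝ᵥ x + (2 : F)⁻¹ * (fstV v ⬝ᵥ sndV v)) else 0 := rfl

theorem disp_zero : disp (0 : V) = (1 : Op) := by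
  ext x y
  rw [disp_apply, show fstV (0 : V) = 0 from rfl, show sndV (0 : V) = 0 from rfl]
  simp [Matrix.one_apply, eq_comm]

variable (h2 : (2 : F) ≠ 0)

include h2

theorem disp_mul (u v : V) :
    disp u * disp v = RankOne.psi F (-((2 : F)⁻¹ * sympForm n F u v)) • disp (u + v) := by
  ext x z
  rw [Matrix.mul_apply, Finset.sum_eq_single (x + fstV u) (fun y _ hy => by
    rw [disp_apply u, if_neg hy, zero_mul]) (fun h => absurd (Finset.mem_univ _) h)]
  rw [Matrix.smul_apply, disp_apply, disp_apply, disp_apply, if_pos rfl, smul_eq_mul, fstV_add,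
    ← add_assoc]
  split_ifs with h
  · rw [← psi_add, ← psi_add]
    congr 1
    rw [form_eq, sndV_add, add_dotProduct, add_dotProduct, dotProduct_add, dotProduct_add,
      dotProduct_add, dotProduct_comm (fstV v) (sndV u), dotProduct_comm (sndV v) (fstV u)]
    field_simp
    ring
  · rw [mul_zero, mul_zero]

theorem disp_neg_mul (v : V) : disp (-v) * disp v = (1 : Op) := by
  rw [disp_mul h2, neg_add_cancel, disp_zero, show -v = (-1 : F) • v by rw [neg_one_smul], f_smul_left,
    f_self, mul_zero, mul_zero, neg_zero, psi_zero, one_smul]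

theorem disp_add (u v : V) :
    disp (u + v) = RankOne.psi F ((2 : F)⁻¹ * sympForm n F u v) • (disp u * disp v) := by
  rw [disp_mul h2, smul_smul, ← psi_add, add_neg_cancel, psi_zero, one_smul]

theorem trace_disp (v : V) : Matrix.trace (disp v : Op) = if v = 0 then ((Fintype.card X : ℕ) : ℂ) else 0 := by
  split_ifs with hv
  · rw [hv, disp_zero, Matrix.trace_one]
  · rw [Matrix.trace]
    by_cases ha : fstV v = 0
    · have hb : sndV v ≠ 0 := fun hb => hv (ext_halves ha hb)
      rw [Finset.sum_congr rfl fun x _ => show Matrix.diag (disp v : Op) x = RankOne.psi F (x ⬝ᵥ sndV v) by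
        rw [Matrix.diag_apply, disp_apply, ha, add_zero, if_pos rfl, zero_dotProduct, mul_zero,
          add_zero, dotProduct_comm], sum_psi_dot, if_neg hb]
    · refine Finset.sum_eq_zero fun x _ => ?_
      rw [Matrix.diag_apply, disp_apply, if_neg (fun h => ha (left_eq_add.mp h))]

theorem single_mem (x y : X) :
    Matrix.single x y (1 : ℂ) ∈ Submodule.span ℂ (Set.range (disp : V → Op)) := by
  let w : X → V := fun b => Sum.elim (y - x) b
  have h1 : ∀ b, fstV (w b) = y - x := fun b => rfl
  have h2' : ∀ b, sndV (w b) = b := fun b => rfl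
  have key : Matrix.single x y (1 : ℂ) = ((Fintype.card X : ℕ) : ℂ)⁻¹ •
      ∑ b : X, RankOne.psi F (-(b ⬝ᵥ x + (2 : F)⁻¹ * ((y - x) ⬝ᵥ b))) • (disp (w b) : Op) := by
    ext x' y'
    rw [Matrix.smul_apply, Matrix.sum_apply, smul_eq_mul]
    simp only [Matrix.smul_apply, disp_apply, h1, h2', smul_eq_mul, mul_ite, mul_zero]
    by_cases hy : y' = x' + (y - x)
    · simp only [if_pos hy, ← psi_add]
      rw [Finset.sum_congr rfl fun b _ => congrArg (RankOne.psi F)
        (show -(b ⬝ᵥ x + (2 : F)⁻¹ * ((y - x) ⬝ᵥ b)) + (b ⬝ᵥ x' + (2 : F)⁻¹ * ((y - x) ⬝ᵥ b)) =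
          b ⬝ᵥ (x' - x) by rw [dotProduct_sub]; ring), sum_psi_dot]
      rw [Matrix.single_apply]
      by_cases hx : x = x'
      · subst hx
        have : y = y' := by rw [hy]; abel
        rw [if_pos ⟨rfl, this⟩, sub_self, if_pos rfl,
          inv_mul_cancel₀ (Nat.cast_ne_zero.mpr Fintype.card_ne_zero)]
      · rw [if_neg (fun h => hx h.1), if_neg (fun h => hx (sub_eq_zero.mp h).symm), mul_zero]
    · simp only [if_neg hy, Finset.sum_const_zero, mul_zero, Matrix.single_apply]
      refine if_neg fun h => hy ?_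
      rw [← h.1, ← h.2]
      abel
  rw [key]
  exact Submodule.smul_mem _ _ (Submodule.sum_mem _ fun b _ =>
    Submodule.smul_mem _ _ (Submodule.subset_span ⟨w b, rfl⟩))

theorem commutant_scalar {M : Op} (h : ∀ v : V, disp v * M = M * disp v) :
    ∃ c : ℂ, M = c • (1 : Op) := by
  have hs : ∀ A ∈ Submodule.span ℂ (Set.range (disp : V → Op)), A * M = M * A := by
    intro A hA
    induction hA using Submodule.span_induction with
    | mem A hA => obtain ⟨v, rfl⟩ := hA; exact h v
    | zero => rw [zero_mul, mul_zero]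
    | add A B _ _ ha hb => rw [add_mul, mul_add, ha, hb]
    | smul c A _ ha => rw [smul_mul_assoc, mul_smul_comm, ha]
  obtain ⟨c, hc⟩ := Matrix.mem_range_scalar_of_commute_single fun i j _ => hs _ (single_mem h2 i j)
  exact ⟨c, by rw [← hc]; ext a b; simp [Matrix.scalar_apply, Matrix.diagonal_apply, Matrix.one_apply]⟩

omit h2

/-- `M` intertwines the model with its twist by `g`. -/
def IsInt (g : G) (M : Op) : Prop := M ≠ 0 ∧ ∀ v : V, M * disp v = disp (app g v) * M

include h2

theorem exists_isInt (g : G) : ∃ M : Op, IsInt g M := by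
  by_contra! hc
  let Av : Op → Op := fun A => ∑ v : V, disp (app g v) * A * disp (-v)
  have hAv : ∀ A u, Av A * disp u = disp (app g u) * Av A := fun A u => by
    simp only [Av, Finset.sum_mul, Finset.mul_sum]
    refine (Fintype.sum_equiv (Equiv.addRight u) _ _ fun w => ?_).symm
    rw [Equiv.coe_addRight, app_add, mul_assoc _ (disp (-(w + u))), disp_mul h2,
      show -(w + u) + u = -w by abel, show app g w + app g u = app g u + app g w from add_comm _ _,
      disp_add h2 (app g u) (app g w), f_app, show -(w + u) = (-1 : F) • (w + u) by rw [neg_one_smul],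
      f_smul_left, f_add_left, f_self, add_zero, f_swap u w]
    simp only [mul_smul_comm, smul_mul_assoc, smul_smul, ← mul_assoc]
    rw [← psi_add]
    conv_lhs => rw [← one_smul ℂ (disp (app g u) * disp (app g w) * A * disp (-w))]
    congr 1
    rw [← psi_zero (F := F)]
    congr 1
    ring
  have hzero : ∀ A, Av A = 0 := fun A => by
    by_contra hne
    exact hc (Av A) ⟨hne, hAv A⟩
  have hcoef : ∀ z w : X, ∑ v : V, disp (-v) z w • (disp (app g v) : Op) = 0 := fun z w => by
    ext x y
    have h := congrFun (congrFun (hzero (Matrix.single y z 1)) x) w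
    simp only [Av, Matrix.sum_apply, Matrix.zero_apply] at h
    rw [Matrix.sum_apply, Matrix.zero_apply]
    refine Eq.trans (Finset.sum_congr rfl fun v _ => ?_) h
    rw [Matrix.smul_apply, smul_eq_mul, Matrix.mul_apply, Finset.sum_eq_single z (fun b _ hb => by
      rw [Matrix.mul_single_apply_of_ne (1 : ℂ) y z x b hb, zero_mul])
      (fun h => absurd (Finset.mem_univ _) h), Matrix.mul_single_apply_same, mul_one, mul_comm]
  have hN : ((Fintype.card X : ℕ) : ℂ) ≠ 0 := Nat.cast_ne_zero.mpr Fintype.card_ne_zero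
  have h1 := congrArg Matrix.trace (hcoef 0 0)
  rw [Matrix.trace_sum, Matrix.trace_zero, Finset.sum_eq_single (0 : V) (fun v _ hv => by
    rw [Matrix.trace_smul, trace_disp h2, if_neg (fun e => hv (by
      rw [← app_inv g v, e]; exact mulVec_zero _)), smul_zero]) (fun h => absurd (Finset.mem_univ _) h),
    Matrix.trace_smul, neg_zero, disp_zero, show app g (0 : V) = 0 from mulVec_zero _, disp_zero,
    Matrix.one_apply_eq, one_smul, Matrix.trace_one] at h1
  exact hN h1

theorem IsInt.injective {g : G} {M : Op} (hM : IsInt g M) :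
    Function.Injective (fun f : X → ℂ => M *ᵥ f) := by
  intro f f' hff
  by_contra hne
  obtain ⟨y, hy⟩ := Function.ne_iff.mp hne
  have h0 : M *ᵥ (f - f') = 0 := by rw [mulVec_sub]; exact sub_eq_zero.mpr hff
  have hall : ∀ A ∈ Submodule.span ℂ (Set.range (disp : V → Op)), M *ᵥ (A *ᵥ (f - f')) = 0 := by
    intro A hA
    induction hA using Submodule.span_induction with
    | mem A hA => obtain ⟨v, rfl⟩ := hA; rw [mulVec_mulVec, hM.2, ← mulVec_mulVec, h0, mulVec_zero]
    | zero => rw [zero_mulVec, mulVec_zero]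
    | add A B _ _ ha hb => rw [add_mulVec, mulVec_add, ha, hb, add_zero]
    | smul c A _ ha => rw [smul_mulVec, mulVec_smul, ha, smul_zero]
  refine hM.1 (Matrix.ext fun a x => ?_)
  have h := congrFun (hall _ (single_mem h2 x y)) a
  rw [single_mulVec, show Function.update (0 : X → ℂ) x (1 * (f - f') y) = Pi.single x (1 * (f - f') y)
    from rfl, mulVec_single] at h
  simp only [Pi.sub_apply, one_mul, Pi.zero_apply, Pi.smul_apply, Matrix.col_apply, op_smul_eq_smul,
    smul_eq_mul, mul_eq_zero] at h
  exact (h.resolve_left (sub_ne_zero.mpr hy)).trans rfl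

theorem IsInt.isUnit {g : G} {M : Op} (hM : IsInt g M) : IsUnit M :=
  Matrix.mulVec_injective_iff_isUnit.mp (hM.injective h2)

theorem IsInt.mul {g g' : G} {M M' : Op} (hM : IsInt g M) (hM' : IsInt g' M') :
    IsInt (g * g') (M * M') := by
  refine ⟨fun h => hM'.1 ((hM.isUnit h2).mul_right_eq_zero.mp h), fun v => ?_⟩
  rw [mul_assoc, hM'.2, ← mul_assoc, hM.2, mul_assoc, app_mul]

theorem IsInt.unique {g : G} {M M' : Op} (hM : IsInt g M) (hM' : IsInt g M') :
    ∃ c : ℂ, M' = c • M := by
  obtain ⟨N, hN⟩ := exists_isInt h2 g⁻¹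
  have hcomm : ∀ {A : Op}, IsInt g A → ∀ v : V, disp v * (N * A) = (N * A) * disp v := fun {A} hA v => by
    have h := (hN.mul h2 hA).2 v
    rw [inv_mul_cancel, app_one] at h
    exact h.symm
  obtain ⟨a, ha⟩ := commutant_scalar h2 (hcomm hM)
  obtain ⟨b, hb⟩ := commutant_scalar h2 (hcomm hM')
  have ha0 : a ≠ 0 := fun h => (hN.mul h2 hM).1 (by rw [ha, h, zero_smul])
  refine ⟨b / a, (hN.isUnit h2).mul_left_cancel ?_⟩
  rw [hb, mul_smul_comm, ha, smul_smul, div_mul_cancel₀ b ha0]

omit h2

/-- The parity operator. -/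
def par : Op := fun x y => if y = -x then 1 else 0

theorem par_mulVec (f : X → ℂ) (x : X) : ((par : Op) *ᵥ f) x = f (-x) := by
  simp [mulVec, dotProduct, par]

theorem par_sq : (par : Op) * par = 1 :=
  Matrix.ext_of_mulVec_single fun a => funext fun x => by
    rw [← mulVec_mulVec, par_mulVec, par_mulVec, neg_neg, one_mulVec]

theorem disp_par (v : V) : (par : Op) * disp v = disp (-v) * par :=
  Matrix.ext_of_mulVec_single fun a => funext fun x => by
    rw [← mulVec_mulVec, ← mulVec_mulVec, par_mulVec]
    rw [mulVec, mulVec, dotProduct, dotProduct,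
      Finset.sum_eq_single (-x + fstV v) (fun y _ hy => by rw [disp_apply, if_neg hy, zero_mul])
        (fun h => absurd (Finset.mem_univ _) h),
      Finset.sum_eq_single (x + fstV (-v)) (fun y _ hy => by rw [disp_apply, if_neg hy, zero_mul])
        (fun h => absurd (Finset.mem_univ _) h), par_mulVec, disp_apply, disp_apply, if_pos rfl,
      if_pos rfl, fstV_neg, sndV_neg, neg_dotProduct, neg_dotProduct, dotProduct_neg, dotProduct_neg,
      neg_neg, neg_add, neg_neg]

include h2

theorem IsInt.commute_par {g : G} {M : Op} (hM : IsInt g M) (hodd : Odd (Fintype.card X)) :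
    M * par = par * M := by
  have hI : IsInt g ((par : Op) * M * par) := by
    refine ⟨fun h => hM.1 ?_, fun v => ?_⟩
    · have h' := congrArg (fun A => (par : Op) * A * par) h
      simp only [← mul_assoc, par_sq, one_mul, mul_zero, zero_mul] at h'
      rwa [mul_assoc, par_sq, mul_one] at h'
    · rw [mul_assoc _ par (disp v), disp_par, ← mul_assoc, mul_assoc _ M (disp (-v)), hM.2,
        ← mul_assoc par, disp_par, show app g (-v) = -app g v from mulVec_neg _ _, neg_neg]
      simp only [mul_assoc]
  obtain ⟨c, hc⟩ := hM.unique h2 hI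
  have hdet : M.det ≠ 0 := ((Matrix.isUnit_iff_isUnit_det M).mp (hM.isUnit h2)).ne_zero
  have hc2 : c * c = 1 := by
    have h' := congrArg (fun A => (par : Op) * A * par) hc
    simp only [← mul_assoc, par_sq, one_mul] at h'
    rw [mul_assoc M, par_sq, mul_one, mul_smul_comm, smul_mul_assoc, hc, smul_smul] at h'
    refine sub_eq_zero.mp ((smul_eq_zero.mp (show (c * c - 1) • M = 0 by
      rw [sub_smul, ← h', one_smul, sub_self])).resolve_right hM.1)
  have hcN : c ^ Fintype.card X = 1 := by
    have h' := congrArg Matrix.det hc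
    rw [det_mul, det_mul, det_smul, mul_comm ((par : Op).det), mul_assoc, ← det_mul, par_sq, det_one,
      mul_one] at h'
    exact mul_right_cancel₀ hdet (by rw [one_mul]; exact h'.symm)
  obtain ⟨r, hr⟩ := hodd
  rw [hr, pow_succ, pow_mul, sq, hc2, one_pow, one_mul] at hcN
  rw [hcN, one_smul] at hc
  calc M * par = (par * M * par) * par := by rw [hc]
    _ = par * M := by rw [mul_assoc, par_sq, mul_one]

end CfsgLib.SpMinDegree
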